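import Cfsg.Agent.H439.Der.Tools
import Cfsg.Agent.H504.ZerosCyc
import Cfsg.Agent.H94.PrimeGraph

/-!
# S3500: `¬ SC T v` from adjacency and from cyclic tori of prime order (helper473)
-/

set_option autoImplicit false

namespace Cfsg.Agent.H473.Der

open Subgroup Cfsg.Agent.H439.Der Cfsg.Agent.H504.ZeroTI Cfsg.Agent.H504.Zeros

universe u

variable {T : Type u} [Group T] [Finite T]

/-- a vertex of the prime graph that is not isolated -/
theorem not_SC_of_adj {v w : ℕ} (h : H94.PG.Adj T v w) : ¬ SC T v := by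
  obtain ⟨hv, hw, hne, x, y, hx, hy, hc⟩ := h
  exact not_SC_of_commute hv hw hne hx hy hc

/-- a CC-subgroup of prime order -/
theorem not_SC_of_cc {v e o : ℕ} (hv : v.Prime) {A : Subgroup T} (hA : CC A) (hc : Nat.card A = v)
    (he : eIdx A = e) (hO : Nat.card (Cfsg.Out T) ≤ o) (h : o * e < v - 1) : ¬ SC T v := by
  have := Fact.mk hv
  obtain ⟨x, hx⟩ := exists_prime_orderOf_dvd_card' (G := A) v (by rw [hc])
  have hx' : orderOf (x : T) = v := by rw [Subgroup.orderOf_coe, hx]
  have hx1 : (x : T) ≠ 1 := by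
    intro h1
    rw [h1, orderOf_one] at hx'
    exact hv.one_lt.ne hx'
  have hz : zpowers (x : T) = A := by
    refine Subgroup.eq_of_le_of_card_ge (zpowers_le.2 x.2) ?_
    rw [Nat.card_zpowers, hx', hc]
  have hcen := hA.cent x x.2 hx1
  refine not_SC_of_lt hv hx' (c := v) (n := e) (o := o) ?_ ?_ hO h
  · rw [hcen, hc]
  · rw [hz, ← he, ← hc]
    unfold eIdx
    have h1 := Subgroup.card_mul_index (A.subgroupOf (normalizer (A : Set T)))
    rw [← h1, Nat.card_congr (Subgroup.subgroupOfEquivOfLe (Subgroup.le_normalizer (H := A))).toEquiv, mul_comm]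

/-- a self-centralising cyclic torus of prime order; the order of the group gives the automizer -/
theorem not_SC_of_exact {a e o : ℕ} (ha : a.Prime) (h : H129.CycT.CycExact T a) (hea : e < a) {N : ℤ}
    (hN : (Nat.card T : ℤ) = a * N) (hmod : ((N : ℤ) : ZMod a) = e) (hO : Nat.card (Cfsg.Out T) ≤ o)
    (hlt : o * e < a - 1) : ¬ SC T a := by
  obtain ⟨A, hAc, hc, hz⟩ := h
  have hA := cc_of_cyclic hAc hz
  exact not_SC_of_cc ha hA hc (eIdx_of_int hA hc hea ha.one_lt hN hmod) hO hlt

/-- the same from the orders of the centralisers -/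
theorem not_SC_of_cent {a e o : ℕ} (ha : a.Prime) (hd : a ∣ Nat.card T)
    (h : ∀ x : T, orderOf x = a → Nat.card (centralizer ({x} : Set T)) = a) (hea : e < a) {N : ℤ}
    (hN : (Nat.card T : ℤ) = a * N) (hmod : ((N : ℤ) : ZMod a) = e) (hO : Nat.card (Cfsg.Out T) ≤ o)
    (hlt : o * e < a - 1) : ¬ SC T a := by
  have := Fact.mk ha
  obtain ⟨x, hx⟩ := exists_prime_orderOf_dvd_card' (G := T) a hd
  refine not_SC_of_exact ha ⟨zpowers x, inferInstance, by rw [Nat.card_zpowers, hx], ?_⟩ hea hN hmod hO hlt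
  intro y hy hy1
  have hyo : orderOf y = a := by
    have h1 : orderOf y ∣ a := by
      rw [← hx]
      exact orderOf_dvd_of_mem_zpowers hy
    rcases (Nat.dvd_prime ha).1 h1 with h2 | h2
    · exact absurd (orderOf_eq_one_iff.1 h2) hy1
    · exact h2
  symm
  refine Subgroup.eq_of_le_of_card_ge ?_ ?_
  · rw [zpowers_le, mem_centralizer_singleton_iff]
    obtain ⟨k, rfl⟩ := mem_zpowers_iff.1 hy
    rw [← zpow_one_add, ← zpow_add_one, add_comm]
  · rw [h y hyo, Nat.card_zpowers, hx]

end Cfsg.Agent.H473.Der
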