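import Cfsg.Agent.H473.Der.Tool
import Cfsg.Agent.H378.ExcNear
import Cfsg.Agent.H129.CycT2
import Cfsg.Agent.S2124
import Cfsg.Agent.S1064

/-!
# S3500: no prime is `SC` for `E₇(q)` (helper473)
-/

set_option autoImplicit false

namespace Cfsg.Agent.H473.Der.E7

open Subgroup Cfsg Cfsg.Lie Cfsg.Lie.ChevalleyDatum Cfsg.Agent.H439.Der Cfsg.Agent.H473.Der
  Cfsg.Agent.H378 Cfsg.Agent.H378.ExcAdj Cfsg.Agent.H129.CycT

theorem od_three_le (q : ℕ) : od q 3 ≤ 2 := by
  unfold od
  generalize ((q : ℕ) : ZMod 3) = x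
  fin_cases x
  · exact le_trans (le_of_eq (orderOf_eq_zero_iff'.2 fun n hn => by
      change (0 : ZMod 3) ^ n ≠ 1
      rw [zero_pow hn.ne']
      decide)) (by norm_num)
  · exact orderOf_le_of_pow_eq_one (by norm_num) (by decide)
  · exact orderOf_le_of_pow_eq_one (by norm_num) (by decide)

variable {F : Type} [Field F] [Fintype F]

theorem three_dvd : (3 : ℕ) ∣ Nat.card ↥(chevE7.group F) := by
  have h := Cfsg.Agent.S1064.result (F := F) rfl
  have hq2 : 2 ≤ Fintype.card F := Fintype.one_lt_card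
  have h1 : 3 ∣ Nat.gcd 2 (Fintype.card F - 1) * Nat.card ↥(chevE7.group F) := by
    rw [h, ← Int.natCast_dvd_natCast, ← ZMod.intCast_zmod_eq_zero_iff_dvd]
    have e : ∀ n : ℕ, ((Fintype.card F ^ n - 1 : ℕ) : ZMod 3) = ((Fintype.card F : ℕ) : ZMod 3) ^ n - 1 := fun n => by
      rw [Nat.cast_sub (Nat.one_le_pow _ _ (by omega))]; push_cast; ring
    push_cast [e]
    generalize ((Fintype.card F : ℕ) : ZMod 3) = x
    revert x
    decide +kernel
  refine ((Nat.Prime.dvd_mul Nat.prime_three).1 h1).resolve_left fun h2 => ?_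
  have := (Nat.prime_dvd_prime_iff_eq Nat.prime_three Nat.prime_two).1 (h2.trans (Nat.gcd_dvd_left _ _))
  omega

/-- **`E₇(q)`** -/
theorem nsc (F : Type) [Field F] [Fintype F] : NSC ↥(chevE7.group F) := by
  intro v hv hd
  have hFc : Nat.card F = Fintype.card F := Nat.card_eq_fintype_card
  have hq2 : 2 ≤ Fintype.card F := Fintype.one_lt_card
  have h32 : H94.PG.Adj ↥(chevE7.group F) 3 2 := by
    have h6 := od_three_le (Nat.card F)
    rcases adj_E7 F Nat.prime_three three_dvd with h4 | h4 | h4 | h4 | h4 | h4 | h4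
    · exact absurd h4 (by norm_num)
    · exact h4
    all_goals exact absurd h4 (by omega)
  rcases ExcNear.near_E7 (F := F) hv hd with (h | h | ⟨s, h, -⟩) | ⟨hq3, h⟩
  · subst h
    exact not_SC_of_adj h32.symm
  · exact not_SC_of_adj h
  · exact not_SC_of_adj h
  · have hc := Cfsg.Agent.S1064.result (F := F) rfl
    rw [hFc] at hq3 h
    rcases (by omega : Fintype.card F = 2 ∨ Fintype.card F = 3) with hF | hF
    · have := Fact.mk Nat.prime_two
      have hF' : Fintype.card F = 2 ^ 1 := hF
      have : CharP F 2 := charP_of_card_eq_prime_pow hF'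
      have hO := Cfsg.Agent.S2124.result 2 1 hF'
      rw [hF] at hc h
      rcases h with h | h
      · have h7 := H378.CycTab.dvd7 hv h
        rw [H378.CycTab.pv7] at h7
        norm_num at h7
        have h8 : v ∣ 127 := by exact_mod_cast h7
        obtain rfl := (Nat.prime_dvd_prime_iff_eq hv (by norm_num)).1 h8
        refine not_SC_of_exact hv (exact_E7_7 hF (by norm_num) (N := 127) (by norm_num)) (e := 14) (o := 1)
          (by norm_num) (N := 2 ^ 63 * (2 ^ 2 - 1) * (2 ^ 6 - 1) * (2 ^ 8 - 1) * (2 ^ 10 - 1) * (2 ^ 12 - 1) *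
            ((2 ^ 14 - 1) / 127) * (2 ^ 18 - 1)) ?_ ?_ ?_ (by norm_num)
        · norm_num at hc
          rw [hc]; norm_num
        · norm_num; decide
        · rw [hO]; norm_num
      · have h7 := H378.CycTab.dvd9 hv h
        rw [H378.CycTab.pv9] at h7
        norm_num at h7
        have h8 : v ∣ 73 := by exact_mod_cast h7
        obtain rfl := (Nat.prime_dvd_prime_iff_eq hv (by norm_num)).1 h8
        refine not_SC_of_exact hv (exact_E7_9 hF (by norm_num) (N := 73) (by norm_num)) (e := 18) (o := 1)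
          (by norm_num) (N := 2 ^ 63 * (2 ^ 2 - 1) * (2 ^ 6 - 1) * (2 ^ 8 - 1) * (2 ^ 10 - 1) * (2 ^ 12 - 1) *
            (2 ^ 14 - 1) * ((2 ^ 18 - 1) / 73)) ?_ ?_ ?_ (by norm_num)
        · norm_num at hc
          rw [hc]; norm_num
        · norm_num; decide
        · rw [hO]; norm_num
    · have := Fact.mk Nat.prime_three
      have hF' : Fintype.card F = 3 ^ 1 := hF
      have : CharP F 3 := charP_of_card_eq_prime_pow hF'
      have hO := Cfsg.Agent.S2124.result 3 1 hF'
      rw [hF] at hc h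
      rcases h with h | h
      · have h7 := H378.CycTab.dvd7 hv h
        rw [H378.CycTab.pv7] at h7
        norm_num at h7
        have h8 : v ∣ 1093 := by exact_mod_cast h7
        obtain rfl := (Nat.prime_dvd_prime_iff_eq hv (by norm_num)).1 h8
        refine not_SC_of_exact hv (exact_E7_7 hF (by norm_num) (N := 1093) (by norm_num)) (e := 14) (o := 2)
          (by norm_num) (N := 3 ^ 63 * ((3 ^ 2 - 1) / 2) * (3 ^ 6 - 1) * (3 ^ 8 - 1) * (3 ^ 10 - 1) * (3 ^ 12 - 1) *
            ((3 ^ 14 - 1) / 1093) * (3 ^ 18 - 1)) ?_ ?_ ?_ (by norm_num)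
        · norm_num at hc ⊢
          have h9 := congrArg (Nat.cast : ℕ → ℤ) hc
          push_cast at h9
          linarith
        · norm_num; decide
        · rw [hO]; norm_num
      · have h7 := H378.CycTab.dvd9 hv h
        rw [H378.CycTab.pv9] at h7
        norm_num at h7
        have h8 : v ∣ 757 := by exact_mod_cast h7
        obtain rfl := (Nat.prime_dvd_prime_iff_eq hv (by norm_num)).1 h8
        refine not_SC_of_exact hv (exact_E7_9 hF (by norm_num) (N := 757) (by norm_num)) (e := 18) (o := 2)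
          (by norm_num) (N := 3 ^ 63 * ((3 ^ 2 - 1) / 2) * (3 ^ 6 - 1) * (3 ^ 8 - 1) * (3 ^ 10 - 1) * (3 ^ 12 - 1) *
            (3 ^ 14 - 1) * ((3 ^ 18 - 1) / 757)) ?_ ?_ ?_ (by norm_num)
        · norm_num at hc ⊢
          have h9 := congrArg (Nat.cast : ℕ → ℤ) hc
          push_cast at h9
          linarith
        · norm_num; decide
        · rw [hO]; norm_num

end Cfsg.Agent.H473.Der.E7
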