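import Cfsg.Agent.H473.Der.NscE8
import Cfsg.Agent.H290.ElE8
import Cfsg.Agent.H436.Simple
import Cfsg.Agent.H566.Main
import Cfsg.Agent.S4008
import Cfsg.Agent.S1065

/-!
# S3500: the row `E₈(q)` (helper473)
-/

set_option autoImplicit false

namespace Cfsg.Agent.H473.Der

open Subgroup Cfsg Cfsg.Lie Cfsg.Agent.H439.Der
open Cfsg.Agent.H264.FKS (Full)

universe u

/-- the row from `NSC` and the ELUSIVE statement -/
theorem row_of_full {T : Type u} [Group T] [Finite T] (h : NSC T) (hf : ∀ M : Subgroup T, Full T M → M = ⊤) :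
    Row T := by
  refine Row.of_pgap h fun M hM => ?_
  by_contra hn
  refine hM.1 (hf M fun r hr hd => ?_)
  by_contra hr'
  exact hn ⟨r, hr, hd, hr'⟩

/-- **`E₈(q)`** -/
theorem row_e8 {T : Type u} [Group T] [Finite T] (h : IsoE8 T) : Row T := by
  obtain ⟨F, _, _, ⟨e⟩⟩ := h
  obtain ⟨p, f, hp, hf, hF⟩ : ∃ p f : ℕ, p.Prime ∧ 1 ≤ f ∧ Fintype.card F = p ^ f := by
    obtain ⟨n, hp, h⟩ := FiniteField.card F (ringChar F)
    exact ⟨ringChar F, n, hp, n.pos, h⟩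
  have hN : H436.IsNamed (.e8 (p ^ f)) ↥(chevE8.group F) := by
    refine H436.IsNamed.mk' ⟨F, inferInstance, inferInstance, hF, ⟨MulEquiv.refl _⟩⟩
      ((isPrimePow_nat_iff _).2 ⟨p, f, hp, hf, rfl⟩) ?_
    change 1 * _ = _ ^ 120 * _
    rw [S1065.result hF]; ring
  refine Row.congr e.symm (row_of_full (E8.nsc F) fun M hM => ?_)
  exact H290.ElE8.full_E8 (fun G _ _ h1 h2 r h3 h4 h5 h6 R _ h7 h8 => S4008.result h1 h2 r h3 h4 h5 h6 R h7 h8)
    (fun X _ _ A G h1 h2 h3 => (H566.rich_sub (fun Y _ _ _ => S0000.result) h1 h2 h3).1)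
    (fun S _ _ _ h => H436.name h) hp hf hN hM

end Cfsg.Agent.H473.Der
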