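import Cfsg.Agent.H473.Der.Tool
import Cfsg.Agent.H504.ZerosExc
import Cfsg.Agent.H371.Core.Fam
import Cfsg.Agent.S2125
import Cfsg.Agent.S1065

/-!
# S3500: no prime is `SC` for `E₈(q)` (helper473)
-/

set_option autoImplicit false

namespace Cfsg.Agent.H473.Der.E8

open Subgroup Cfsg Cfsg.Lie Cfsg.Lie.ChevalleyDatum Cfsg.Agent.H439.Der Cfsg.Agent.H473.Der Cfsg.Agent.H371.Core Cfsg.Agent.H371.CycEval
  Cfsg.Agent.H378 Cfsg.Agent.H378.ExcAdj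

/-! ### the automizers -/

theorem mod24 {R : Type*} [CommRing R] {x : R} (h : x ^ 8 - x ^ 4 + 1 = 0) :
    x ^ 120 * (x ^ 2 - 1) * (x ^ 8 - 1) * (x ^ 12 - 1) * (x ^ 14 - 1) * (x ^ 18 - 1) * (x ^ 20 - 1) *
      ((x ^ 12 - 1) * (x ^ 4 + 1)) * (x ^ 30 - 1) = 24 := by
  have p12 : x ^ 12 = -1 := by linear_combination (x ^ 4 + 1) * h
  have p8 : x ^ 8 = x ^ 4 - 1 := by linear_combination h
  have p14 : x ^ 14 = -x ^ 2 := by rw [show x ^ 14 = x ^ 12 * x ^ 2 by ring, p12]; ring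
  have p18 : x ^ 18 = -x ^ 6 := by rw [show x ^ 18 = x ^ 12 * x ^ 6 by ring, p12]; ring
  have p20 : x ^ 20 = 1 - x ^ 4 := by rw [show x ^ 20 = x ^ 12 * x ^ 8 by ring, p12, p8]; ring
  have p30 : x ^ 30 = x ^ 6 := by rw [show x ^ 30 = (x ^ 12) ^ 2 * x ^ 6 by ring, p12]; ring
  have p120 : x ^ 120 = 1 := by rw [show x ^ 120 = (x ^ 12) ^ 10 by ring, p12]; ring
  rw [p120, p12, p14, p18, p20, p30, p8]
  linear_combination (-24 - 16 * x ^ 4 + 4 * x ^ 8 + 12 * x ^ 12 + 4 * x ^ 16 - 4 * x ^ 20) * h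

theorem mod20 {R : Type*} [CommRing R] {x : R} (h : x ^ 8 - x ^ 6 + x ^ 4 - x ^ 2 + 1 = 0) :
    x ^ 120 * (x ^ 2 - 1) * (x ^ 8 - 1) * (x ^ 12 - 1) * (x ^ 14 - 1) * (x ^ 18 - 1) *
      ((x ^ 10 - 1) * (x ^ 2 + 1)) * (x ^ 24 - 1) * (x ^ 30 - 1) = 20 := by
  have p10 : x ^ 10 = -1 := by linear_combination (x ^ 2 + 1) * h
  have p12 : x ^ 12 = -x ^ 2 := by rw [show x ^ 12 = x ^ 10 * x ^ 2 by ring, p10]; ring
  have p14 : x ^ 14 = -x ^ 4 := by rw [show x ^ 14 = x ^ 10 * x ^ 4 by ring, p10]; ring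
  have p18 : x ^ 18 = -x ^ 8 := by rw [show x ^ 18 = x ^ 10 * x ^ 8 by ring, p10]; ring
  have p24 : x ^ 24 = x ^ 4 := by rw [show x ^ 24 = (x ^ 10) ^ 2 * x ^ 4 by ring, p10]; ring
  have p30 : x ^ 30 = -1 := by rw [show x ^ 30 = (x ^ 10) ^ 3 by ring, p10]; ring
  have p120 : x ^ 120 = 1 := by rw [show x ^ 120 = (x ^ 10) ^ 12 by ring, p10]; ring
  rw [p120, p10, p12, p14, p18, p24, p30]
  linear_combination (-16 - 12 * x ^ 2 - 8 * x ^ 6 - 8 * x ^ 8 + 8 * x ^ 10 + 12 * x ^ 12 + 8 * x ^ 14 +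
    8 * x ^ 16 - 8 * x ^ 20 - 4 * x ^ 22) * h

theorem mod30 {R : Type*} [CommRing R] {x : R} (h : x ^ 8 + x ^ 7 - x ^ 5 - x ^ 4 - x ^ 3 + x + 1 = 0) :
    x ^ 120 * (x ^ 2 - 1) * (x ^ 8 - 1) * (x ^ 12 - 1) * (x ^ 14 - 1) * (x ^ 18 - 1) * (x ^ 20 - 1) * (x ^ 24 - 1) *
      (-1 + x - x ^ 2 - x ^ 5 + x ^ 6 - x ^ 7 + x ^ 15 - x ^ 16 + x ^ 17 + x ^ 20 - x ^ 21 + x ^ 22) = 30 :=
  H504.ZerosMod.mod_E8_30 (by linear_combination h)

theorem mod15 {R : Type*} [CommRing R] {x : R} (h : x ^ 8 - x ^ 7 + x ^ 5 - x ^ 4 + x ^ 3 - x + 1 = 0) :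
    x ^ 120 * (x ^ 2 - 1) * (x ^ 8 - 1) * (x ^ 12 - 1) * (x ^ 14 - 1) * (x ^ 18 - 1) * (x ^ 20 - 1) * (x ^ 24 - 1) *
      (-1 - x - x ^ 2 + x ^ 5 + x ^ 6 + x ^ 7 - x ^ 15 - x ^ 16 - x ^ 17 + x ^ 20 + x ^ 21 + x ^ 22) = 30 := by
  have h1 := mod30 (x := -x) (by linear_combination h)
  rw [← h1]
  have e : ∀ n : ℕ, (-x) ^ (2 * n) = x ^ (2 * n) := fun n => by rw [pow_mul, neg_sq, ← pow_mul]
  rw [show (-x) ^ 120 = x ^ 120 from e 60, show (-x) ^ 2 = x ^ 2 from e 1, show (-x) ^ 8 = x ^ 8 from e 4,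
    show (-x) ^ 12 = x ^ 12 from e 6, show (-x) ^ 14 = x ^ 14 from e 7, show (-x) ^ 18 = x ^ 18 from e 9,
    show (-x) ^ 20 = x ^ 20 from e 10, show (-x) ^ 24 = x ^ 24 from e 12]
  congr 1
  ring

variable {F : Type} [Field F] [Fintype F] {q : ℕ}

theorem card_int (hq : Fintype.card F = q) : (Nat.card ↥(chevE8.group F) : ℤ) = (q : ℤ) ^ 120 * ((q : ℤ) ^ 2 - 1) *
      ((q : ℤ) ^ 8 - 1) * ((q : ℤ) ^ 12 - 1) * ((q : ℤ) ^ 14 - 1) * ((q : ℤ) ^ 18 - 1) *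
      ((q : ℤ) ^ 20 - 1) * ((q : ℤ) ^ 24 - 1) * ((q : ℤ) ^ 30 - 1) := by
  have hq2 : 2 ≤ q := hq ▸ Fintype.one_lt_card
  rw [Cfsg.Agent.S1065.result (F := F) hq, Nat.cast_mul, Nat.cast_mul, Nat.cast_mul, Nat.cast_mul, Nat.cast_mul,
      Nat.cast_mul, Nat.cast_mul, Nat.cast_mul]
  have e : ∀ n : ℕ, ((q ^ n - 1 : ℕ) : ℤ) = (q : ℤ) ^ n - 1 := fun n => by
    rw [Nat.cast_sub (Nat.one_le_pow _ _ (by omega))]; push_cast; ring
  rw [e, e, e, e, e, e, e, e, Nat.cast_pow]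

/-- the arithmetic of the four tori -/
theorem big {q f : ℕ} (hq2 : 2 ≤ q) (hf : 2 ^ f ≤ q) {N : ℤ}
    (hN : (q : ℤ) ^ 8 - (q : ℤ) ^ 7 + (q : ℤ) ^ 5 - (q : ℤ) ^ 4 + (q : ℤ) ^ 3 - q + 1 ≤ N) : (f : ℤ) * 30 + 1 < N := by
  have hf' : f < q := lt_of_lt_of_le Nat.lt_two_pow_self hf
  obtain ⟨a, rfl⟩ := Nat.exists_eq_add_of_le' hq2
  have h1 : (f : ℤ) ≤ a + 1 := by exact_mod_cast (by omega : f ≤ a + 1)
  refine lt_of_lt_of_le ?_ hN
  have ha : (0 : ℤ) ≤ a := Int.natCast_nonneg a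
  have h2 : (f : ℤ) * 30 + 1 ≤ 30 * a + 31 := by linarith
  refine lt_of_le_of_lt h2 ?_
  push_cast
  have : 0 < ((a : ℤ) + 2) ^ 8 - ((a : ℤ) + 2) ^ 7 + ((a : ℤ) + 2) ^ 5 - ((a : ℤ) + 2) ^ 4 + ((a : ℤ) + 2) ^ 3 -
      ((a : ℤ) + 2) + 1 - (30 * a + 31) := by
    ring_nf
    positivity
  linarith

theorem natAbs_cast {z : ℤ} (h : 0 ≤ z) : ((z.natAbs : ℕ) : ℤ) = z := Int.natAbs_of_nonneg h

/-- one torus -/
theorem torus {m e : ℕ} {P R : ℤ} (hT : Tor ↥(chevE8.group F) q m P.natAbs)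
    {f : ℕ} (hO : Nat.card (Cfsg.Out ↥(chevE8.group F)) = f) (he30 : e ≤ 30)
    (hP : (f : ℤ) * 30 + 1 < P) (hc : (Nat.card ↥(chevE8.group F) : ℤ) = P * R)
    (hmod : ∀ a : ℕ, (a : ℤ) = P → ((R : ℤ) : ZMod a) = e) {v : ℕ} (hv : v.Prime) (hod : H378.ExcAdj.od q v = m) :
    ¬ SC ↥(chevE8.group F) v := by
  have hf0 : 0 < f := by rw [← hO]; exact Nat.card_pos
  have hP0 : 0 ≤ P := by have : (0 : ℤ) ≤ f := Int.natCast_nonneg f; linarith
  have hPa := natAbs_cast hP0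
  have hdv := hT.dv v hv hod
  obtain ⟨g, hg⟩ := hT.ex
  by_cases hne : P.natAbs = v
  · have hva : (v : ℤ) = P := by rw [← hne, hPa]
    have hlt : f * 30 + 1 < v := by
      have : ((f * 30 + 1 : ℕ) : ℤ) < v := by rw [hva]; push_cast; exact hP
      exact_mod_cast this
    have h1 : e ≤ f * 30 := le_trans he30 (Nat.le_mul_of_pos_left _ hf0)
    have h2 : f * e ≤ f * 30 := Nat.mul_le_mul_left _ he30
    refine not_SC_of_cent hv (hdv.trans (hg ▸ orderOf_dvd_natCard g)) (fun x hx => ?_) (e := e) (o := f) (N := R)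
      (by omega) (by rw [hc, hva]) (hmod v hva) hO.le (by omega)
    rw [hT.ct v hv hod x hx, hne]
  · exact not_SC_of_orderOf hv (y := g) (by rw [hg]; exact hdv) (by rw [hg]; exact hne)

/-- **`E₈(q)`** -/
theorem nsc (F : Type) [Field F] [Fintype F] : NSC ↥(chevE8.group F) := by
  intro v hv hd
  obtain ⟨p, f, hp, hf, hF⟩ : ∃ p f : ℕ, p.Prime ∧ 1 ≤ f ∧ Fintype.card F = p ^ f := by
    obtain ⟨n, hp, h⟩ := FiniteField.card F (ringChar F)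
    exact ⟨ringChar F, n, hp, n.pos, h⟩
  have := Fact.mk hp
  have : CharP F p := charP_of_card_eq_prime_pow hF
  have hO := Cfsg.Agent.S2125.result p f hF
  have hFc : Nat.card F = Fintype.card F := Nat.card_eq_fintype_card
  have hcard := card_int (F := F) rfl
  have hq2 : 2 ≤ Fintype.card F := Fintype.one_lt_card
  have h2f : 2 ^ f ≤ Fintype.card F := by rw [hF]; exact Nat.pow_le_pow_left hp.two_le f
  rcases adj_E8 F hv hd with h | h | h | h | h | h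
  · -- the prime 2
    have h3 : (3 : ℕ) ∣ Nat.card ↥(chevE8.group F) := by
      have h8 : ((3 : ℕ) : ℤ) ∣ (Nat.card ↥(chevE8.group F) : ℤ) := by
        rw [hcard, ← ZMod.intCast_zmod_eq_zero_iff_dvd]
        push_cast
        generalize ((Fintype.card F : ℕ) : ZMod 3) = x
        revert x
        decide +kernel
      exact Int.natCast_dvd_natCast.1 h8
    have hod : ∀ m : ℕ, 2 < m → od (Nat.card F) 3 ≠ m := by
      intro m hm h5
      unfold od at h5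
      generalize ((Nat.card F : ℕ) : ZMod 3) = x at h5
      have : orderOf x ≤ 2 := by
        fin_cases x
        · exact le_trans (le_of_eq (orderOf_eq_zero_iff'.2 fun n hn => by
            change (0 : ZMod 3) ^ n ≠ 1
            rw [zero_pow hn.ne']
            decide)) (by norm_num)
        · exact orderOf_le_of_pow_eq_one (by norm_num) (by decide)
        · exact orderOf_le_of_pow_eq_one (by norm_num) (by decide)
      omega
    subst h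
    rcases adj_E8 F Nat.prime_three h3 with h4 | h4 | h4 | h4 | h4 | h4
    · exact absurd h4 (by norm_num)
    · exact not_SC_of_adj h4.symm
    all_goals exact absurd h4 (hod _ (by norm_num))
  · exact not_SC_of_adj h
  · refine torus (m := 15) (e := 30) (R := (Fintype.card F : ℤ) ^ 120 * ((Fintype.card F : ℤ) ^ 2 - 1) *
      ((Fintype.card F : ℤ) ^ 8 - 1) * ((Fintype.card F : ℤ) ^ 12 - 1) * ((Fintype.card F : ℤ) ^ 14 - 1) *
      ((Fintype.card F : ℤ) ^ 18 - 1) * ((Fintype.card F : ℤ) ^ 20 - 1) * ((Fintype.card F : ℤ) ^ 24 - 1) *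
      (-1 - (Fintype.card F : ℤ) - (Fintype.card F : ℤ) ^ 2 + (Fintype.card F : ℤ) ^ 5 + (Fintype.card F : ℤ) ^ 6 +
        (Fintype.card F : ℤ) ^ 7 - (Fintype.card F : ℤ) ^ 15 - (Fintype.card F : ℤ) ^ 16 - (Fintype.card F : ℤ) ^ 17 +
        (Fintype.card F : ℤ) ^ 20 + (Fintype.card F : ℤ) ^ 21 + (Fintype.card F : ℤ) ^ 22))
      (hFc ▸ tor_E8_15 F) hO le_rfl ?_ ?_ ?_ hv (hFc ▸ h)
    · rw [ev15]
      exact big hq2 h2f le_rfl
    · rw [hcard, ev15]; ring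
    · intro a ha
      push_cast
      refine mod15 ?_
      have h1 : ((a : ℤ) : ZMod a) = 0 := by push_cast; exact ZMod.natCast_self a
      rw [ha, ev15] at h1
      push_cast at h1
      exact h1
  · refine torus (m := 20) (e := 20) (R := (Fintype.card F : ℤ) ^ 120 * ((Fintype.card F : ℤ) ^ 2 - 1) *
      ((Fintype.card F : ℤ) ^ 8 - 1) * ((Fintype.card F : ℤ) ^ 12 - 1) * ((Fintype.card F : ℤ) ^ 14 - 1) *
      ((Fintype.card F : ℤ) ^ 18 - 1) * (((Fintype.card F : ℤ) ^ 10 - 1) * ((Fintype.card F : ℤ) ^ 2 + 1)) *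
      ((Fintype.card F : ℤ) ^ 24 - 1) * ((Fintype.card F : ℤ) ^ 30 - 1))
      (hFc ▸ tor_E8_20 F) hO (by norm_num) ?_ ?_ ?_ hv (hFc ▸ h)
    · rw [ev20]
      exact big hq2 h2f (by
        obtain ⟨b, hb⟩ := Nat.exists_eq_add_of_le' hq2
        rw [hb]
        have hb0 : (0 : ℤ) ≤ b := Int.natCast_nonneg b
        push_cast
        have : 0 ≤ (((b : ℤ) + 2) ^ 8 - ((b : ℤ) + 2) ^ 6 + ((b : ℤ) + 2) ^ 4 - ((b : ℤ) + 2) ^ 2 + 1) -
            (((b : ℤ) + 2) ^ 8 - ((b : ℤ) + 2) ^ 7 + ((b : ℤ) + 2) ^ 5 - ((b : ℤ) + 2) ^ 4 + ((b : ℤ) + 2) ^ 3 -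
              ((b : ℤ) + 2) + 1) := by
          ring_nf
          positivity
        linarith)
    · rw [hcard, ev20]; ring
    · intro a ha
      push_cast
      refine mod20 ?_
      have h1 : ((a : ℤ) : ZMod a) = 0 := by push_cast; exact ZMod.natCast_self a
      rw [ha, ev20] at h1
      push_cast at h1
      exact h1
  · refine torus (m := 24) (e := 24) (R := (Fintype.card F : ℤ) ^ 120 * ((Fintype.card F : ℤ) ^ 2 - 1) *
      ((Fintype.card F : ℤ) ^ 8 - 1) * ((Fintype.card F : ℤ) ^ 12 - 1) * ((Fintype.card F : ℤ) ^ 14 - 1) *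
      ((Fintype.card F : ℤ) ^ 18 - 1) * ((Fintype.card F : ℤ) ^ 20 - 1) *
      (((Fintype.card F : ℤ) ^ 12 - 1) * ((Fintype.card F : ℤ) ^ 4 + 1)) * ((Fintype.card F : ℤ) ^ 30 - 1))
      (hFc ▸ tor_E8_24 F) hO (by norm_num) ?_ ?_ ?_ hv (hFc ▸ h)
    · rw [ev24]
      exact big hq2 h2f (by
        obtain ⟨b, hb⟩ := Nat.exists_eq_add_of_le' hq2
        rw [hb]
        have hb0 : (0 : ℤ) ≤ b := Int.natCast_nonneg b
        push_cast
        have : 0 ≤ (((b : ℤ) + 2) ^ 8 - ((b : ℤ) + 2) ^ 4 + 1) -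
            (((b : ℤ) + 2) ^ 8 - ((b : ℤ) + 2) ^ 7 + ((b : ℤ) + 2) ^ 5 - ((b : ℤ) + 2) ^ 4 + ((b : ℤ) + 2) ^ 3 -
              ((b : ℤ) + 2) + 1) := by
          ring_nf
          positivity
        linarith)
    · rw [hcard, ev24]; ring
    · intro a ha
      push_cast
      refine mod24 ?_
      have h1 : ((a : ℤ) : ZMod a) = 0 := by push_cast; exact ZMod.natCast_self a
      rw [ha, ev24] at h1
      push_cast at h1
      exact h1
  · refine torus (m := 30) (e := 30) (R := (Fintype.card F : ℤ) ^ 120 * ((Fintype.card F : ℤ) ^ 2 - 1) *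
      ((Fintype.card F : ℤ) ^ 8 - 1) * ((Fintype.card F : ℤ) ^ 12 - 1) * ((Fintype.card F : ℤ) ^ 14 - 1) *
      ((Fintype.card F : ℤ) ^ 18 - 1) * ((Fintype.card F : ℤ) ^ 20 - 1) * ((Fintype.card F : ℤ) ^ 24 - 1) *
      (-1 + (Fintype.card F : ℤ) - (Fintype.card F : ℤ) ^ 2 - (Fintype.card F : ℤ) ^ 5 + (Fintype.card F : ℤ) ^ 6 -
        (Fintype.card F : ℤ) ^ 7 + (Fintype.card F : ℤ) ^ 15 - (Fintype.card F : ℤ) ^ 16 + (Fintype.card F : ℤ) ^ 17 +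
        (Fintype.card F : ℤ) ^ 20 - (Fintype.card F : ℤ) ^ 21 + (Fintype.card F : ℤ) ^ 22))
      (hFc ▸ tor_E8_30 F) hO le_rfl ?_ ?_ ?_ hv (hFc ▸ h)
    · rw [ev30]
      exact big hq2 h2f (by
        obtain ⟨b, hb⟩ := Nat.exists_eq_add_of_le' hq2
        rw [hb]
        have hb0 : (0 : ℤ) ≤ b := Int.natCast_nonneg b
        push_cast
        have : 0 ≤ (((b : ℤ) + 2) ^ 8 + ((b : ℤ) + 2) ^ 7 - ((b : ℤ) + 2) ^ 5 - ((b : ℤ) + 2) ^ 4 -
            ((b : ℤ) + 2) ^ 3 + ((b : ℤ) + 2) + 1) -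
            (((b : ℤ) + 2) ^ 8 - ((b : ℤ) + 2) ^ 7 + ((b : ℤ) + 2) ^ 5 - ((b : ℤ) + 2) ^ 4 + ((b : ℤ) + 2) ^ 3 -
              ((b : ℤ) + 2) + 1) := by
          ring_nf
          positivity
        linarith)
    · rw [hcard, ev30]; ring
    · intro a ha
      push_cast
      refine mod30 ?_
      have h1 : ((a : ℤ) : ZMod a) = 0 := by push_cast; exact ZMod.natCast_self a
      rw [ha, ev30] at h1
      push_cast at h1
      exact h1

end Cfsg.Agent.H473.Der.E8
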